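import Cfsg.Prelude.Def_LocalEven
import Cfsg.Agent.Lib.GL.Basic
import Mathlib

/-!
Coordinates on a faithful natural `SL₂(F)`-module in which a given Sylow subgroup becomes the group
of upper unitriangular matrices.
-/

set_option autoImplicit false

namespace Cfsg.Agent.NaturalSL2

open Matrix

variable {F : Type*} [Field F]

local notation "SL2" => Matrix.SpecialLinearGroup (Fin 2) F

/-- The upper unitriangular subgroup. -/
def upperUni (F : Type*) [Field F] : Subgroup (Matrix.SpecialLinearGroup (Fin 2) F) where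
  carrier := {A | (A : Matrix (Fin 2) (Fin 2) F) 0 0 = 1 ∧ (A : Matrix (Fin 2) (Fin 2) F) 1 0 = 0}
  one_mem' := by simp
  mul_mem' := by
    rintro A B ⟨a, b⟩ ⟨c, d⟩
    simp [Matrix.SpecialLinearGroup.coe_mul, Matrix.mul_apply, Fin.sum_univ_two, a, b, c, d]
  inv_mem' := by
    rintro A ⟨a, b⟩
    have hd := A.2
    rw [Matrix.det_fin_two] at hd
    simp [a, b] at hd
    simp [Matrix.SpecialLinearGroup.coe_inv, Matrix.adjugate_fin_two, b, hd]

theorem apply_of_mem_upperUni {A : SL2} (h : A ∈ upperUni F) :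
    (A : Matrix (Fin 2) (Fin 2) F) = !![1, (A : Matrix (Fin 2) (Fin 2) F) 0 1; 0, 1] := by
  obtain ⟨a, b⟩ := h
  have hd := A.2
  rw [Matrix.det_fin_two] at hd
  simp [a, b] at hd
  ext i j
  fin_cases i <;> fin_cases j <;> simp [a, b, hd]

/-- The unipotent element with parameter `x`. -/
def uni (x : F) : SL2 := ⟨!![1, x; 0, 1], by simp [Matrix.det_fin_two]⟩

theorem uni_mem (x : F) : uni x ∈ upperUni F := ⟨rfl, rfl⟩

/-- `upperUni F ≃ F`. -/
def uniEquiv : ↥(upperUni F) ≃ F where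
  toFun A := (A.1 : Matrix (Fin 2) (Fin 2) F) 0 1
  invFun x := ⟨uni x, uni_mem x⟩
  left_inv A := Subtype.ext (Subtype.ext (apply_of_mem_upperUni A.2).symm)
  right_inv _ := rfl

theorem card_upperUni [Fintype F] : Nat.card ↥(upperUni F) = Fintype.card F := by
  rw [Nat.card_congr uniEquiv, Nat.card_eq_fintype_card]

/-- A Sylow `p`-subgroup of `SL₂` in defining characteristic. -/
theorem exists_sylow_upperUni [Fintype F] {p n : ℕ} [Fact p.Prime] (hF : Fintype.card F = p ^ n) :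
    ∃ P : Sylow p SL2, (P : Subgroup SL2) = upperUni F := by
  have hp : p.Prime := Fact.out
  have hn : n ≠ 0 := by
    rintro rfl
    exact absurd hF (by simpa using (Fintype.one_lt_card (α := F)).ne')
  have h2 : 1 < (p ^ n) ^ 2 := Nat.one_lt_pow two_ne_zero (Nat.one_lt_pow hn hp.one_lt)
  have hcop : ¬ p ∣ (p ^ n) ^ 2 - 1 := fun h => by
    have h1 : p ∣ (p ^ n) ^ 2 := dvd_pow (dvd_pow_self p hn) two_ne_zero
    have := Nat.dvd_sub h1 h
    rw [Nat.sub_sub_self h2.le] at this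
    exact hp.one_lt.ne' (Nat.dvd_one.1 this)
  have hfac : (Nat.card SL2).factorization p = n := by
    classical
    rw [GL.card_SL2 (F := F), hF, Nat.factorization_mul (pow_ne_zero n hp.ne_zero) (by omega),
      Finsupp.add_apply, Nat.factorization_eq_zero_of_not_dvd hcop, hp.factorization_pow]
    simp
  exact ⟨Sylow.ofCard (upperUni F) (by rw [card_upperUni, hF, hfac]), rfl⟩

variable {G : Type*} [Group G] {p : ℕ}

/-- Adapted coordinates. -/
structure Coords (F : Type*) [Field F] (V L T : Subgroup G) where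
  ρ : L →* Matrix.SpecialLinearGroup (Fin 2) F
  bij : Function.Bijective ρ
  φ : ↥V → Fin 2 → F
  φ_bij : Function.Bijective φ
  φ_mul : ∀ v w, φ (v * w) = φ v + φ w
  norm : L ≤ Subgroup.normalizer (V : Set G)
  equiv : ∀ (l : L) (v w : V), (w : G) = (l : G) * (v : G) * (l : G)⁻¹ →
    φ w = (ρ l : Matrix (Fin 2) (Fin 2) F) *ᵥ φ v
  memT : ∀ l : L, (l : G) ∈ T ↔ ρ l ∈ upperUni F
  le : T ≤ L

theorem nonempty_coords [Finite G] [Fact p.Prime] [Fintype F] {n : ℕ} (hF : Fintype.card F = p ^ n)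
    {V L : Subgroup G} (hnat : Cfsg.IsNaturalSL2Module F V L)
    (hf : L ⊓ Subgroup.centralizer (V : Set G) = ⊥) (S : Sylow p ↥L) {T : Subgroup G}
    (hT : T = (S : Subgroup ↥L).map L.subtype) : Nonempty (Coords F V L T) := by
  obtain ⟨hnorm, ρ, ψ, hs, hker, heq⟩ := hnat
  have hinj : Function.Injective ρ := by
    rw [← MonoidHom.ker_eq_bot_iff, hker, Subgroup.eq_bot_iff_forall]
    intro l hl
    exact Subtype.ext (Subgroup.mem_bot.1 (hf.le ⟨l.2, Subgroup.mem_subgroupOf.1 hl⟩))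
  obtain ⟨P, hP⟩ := exists_sylow_upperUni (F := F) hF
  obtain ⟨g, hg⟩ := MulAction.exists_smul_eq SL2 P (S.mapSurjective hs)
  have hP' : ((S : Subgroup ↥L).map ρ) = (upperUni F).map (MulAut.conj g).toMonoidHom := by
    rw [← hP]
    exact (congrArg (fun Q : Sylow p SL2 => (Q : Subgroup SL2)) hg).symm
  refine ⟨{
    ρ := (MulAut.conj g⁻¹).toMonoidHom.comp ρ
    bij := (MulAut.conj g⁻¹).bijective.comp ⟨hinj, hs⟩
    φ := fun v => ((g⁻¹ : SL2) : Matrix (Fin 2) (Fin 2) F) *ᵥ ψ (Additive.ofMul v)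
    φ_bij := ?_
    φ_mul := fun v w => by rw [ofMul_mul, map_add, Matrix.mulVec_add]
    norm := hnorm
    equiv := ?_
    memT := ?_
    le := hT ▸ Subgroup.map_subtype_le _ }⟩
  · suffices hb : Function.Bijective
        (fun x : Fin 2 → F => ((g⁻¹ : SL2) : Matrix (Fin 2) (Fin 2) F) *ᵥ x) from
      (hb.comp ψ.bijective).comp Additive.ofMul.bijective
    have h1 : ∀ x : Fin 2 → F, (g : Matrix (Fin 2) (Fin 2) F) *ᵥ
        (((g⁻¹ : SL2) : Matrix (Fin 2) (Fin 2) F) *ᵥ x) = x := fun x => by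
      rw [Matrix.mulVec_mulVec, ← Matrix.SpecialLinearGroup.coe_mul, mul_inv_cancel,
        Matrix.SpecialLinearGroup.coe_one, Matrix.one_mulVec]
    have h2 : ∀ x : Fin 2 → F, ((g⁻¹ : SL2) : Matrix (Fin 2) (Fin 2) F) *ᵥ
        ((g : Matrix (Fin 2) (Fin 2) F) *ᵥ x) = x := fun x => by
      rw [Matrix.mulVec_mulVec, ← Matrix.SpecialLinearGroup.coe_mul, inv_mul_cancel,
        Matrix.SpecialLinearGroup.coe_one, Matrix.one_mulVec]
    exact ⟨Function.LeftInverse.injective h1, Function.RightInverse.surjective h2⟩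
  · intro l v w hw
    obtain ⟨w', hw', he⟩ := heq l v
    obtain rfl : w' = w := Subtype.ext (hw'.trans hw.symm)
    simp only [MonoidHom.coe_comp, Function.comp_apply, MulEquiv.coe_toMonoidHom, MulAut.conj_apply,
      inv_inv, he]
    rw [Matrix.mulVec_mulVec, Matrix.mulVec_mulVec, ← Matrix.SpecialLinearGroup.coe_mul,
      ← Matrix.SpecialLinearGroup.coe_mul]
    exact congrArg (fun A : SL2 => (A : Matrix (Fin 2) (Fin 2) F) *ᵥ ψ (Additive.ofMul v))
      (mul_inv_cancel_right (g⁻¹ * ρ l) g).symm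
  · intro l
    have h1 : (l : G) ∈ T ↔ ρ l ∈ (S : Subgroup ↥L).map ρ := by
      rw [hT, Subgroup.mem_map_iff_mem hinj]
      exact Subgroup.mem_map_iff_mem L.subtype_injective
    rw [h1, hP', Subgroup.mem_map_equiv]
    simp

namespace Coords

variable {V L T : Subgroup G} (c : Coords F V L T)

theorem φ_one : c.φ 1 = 0 := by
  have h := c.φ_mul 1 1
  rw [mul_one] at h
  exact left_eq_add.1 h

theorem exists_φ (x : Fin 2 → F) : ∃ v : V, c.φ v = x := c.φ_bij.2 x

theorem exists_ρ (A : SL2) : ∃ l : L, c.ρ l = A := c.bij.2 A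

/-- Conjugation in coordinates. -/
theorem φ_conj (l : L) (v : V) :
    ∃ w : V, (w : G) = (l : G) * v * (l : G)⁻¹ ∧
      c.φ w = (c.ρ l : Matrix (Fin 2) (Fin 2) F) *ᵥ c.φ v :=
  ⟨⟨_, (Subgroup.mem_normalizer_iff.1 (c.norm l.2) _).1 v.2⟩, rfl, c.equiv l v _ rfl⟩

theorem commute_iff (l : L) (v : V) :
    Commute (v : G) (l : G) ↔ (c.ρ l : Matrix (Fin 2) (Fin 2) F) *ᵥ c.φ v = c.φ v := by
  obtain ⟨w, hw, he⟩ := c.φ_conj l v
  rw [← he, c.φ_bij.1.eq_iff, ← Subtype.coe_inj, hw]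
  constructor
  · intro h
    rw [← h.eq, mul_inv_cancel_right]
  · intro h
    exact (mul_inv_eq_iff_eq_mul.1 h).symm

theorem mem_inf_centralizer {v : V} :
    (v : G) ∈ V ⊓ Subgroup.centralizer (T : Set G) ↔ c.φ v 1 = 0 := by
  constructor
  · intro h
    obtain ⟨l, hl⟩ := c.exists_ρ (uni 1)
    have h1 := (c.commute_iff l v).1
      (Subgroup.mem_centralizer_iff.1 h.2 (l : G) ((c.memT l).2 (hl ▸ uni_mem 1))).symm
    rw [hl] at h1
    have := congrFun h1 0
    simpa [uni, Matrix.mulVec, dotProduct, Fin.sum_univ_two] using this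
  · intro h
    refine ⟨v.2, Subgroup.mem_centralizer_iff.2 fun t ht => ?_⟩
    refine ((c.commute_iff ⟨t, c.le ht⟩ v).2 ?_).eq.symm
    rw [apply_of_mem_upperUni ((c.memT ⟨t, c.le ht⟩).1 ht)]
    funext i
    fin_cases i <;> simp [Matrix.mulVec, dotProduct, Fin.sum_univ_two, h]

theorem param_ne_zero {l : L} (hl : (l : G) ∈ T) (h1 : (l : G) ≠ 1) :
    (c.ρ l : Matrix (Fin 2) (Fin 2) F) 0 1 ≠ 0 := by
  intro h0
  refine h1 ?_
  have : c.ρ l = c.ρ 1 := by
    rw [map_one]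
    apply Subtype.ext
    rw [apply_of_mem_upperUni ((c.memT l).1 hl), h0, Matrix.SpecialLinearGroup.coe_one,
      Matrix.one_fin_two]
  rw [c.bij.1 this]; rfl

/-- The commutator `[v, l]` in coordinates. -/
theorem exists_comm {l : L} (hl : (l : G) ∈ T) (v : V) :
    ∃ w : V, (w : G) = (v : G) * l * (v : G)⁻¹ * (l : G)⁻¹ ∧
      c.φ w = ![-((c.ρ l : Matrix (Fin 2) (Fin 2) F) 0 1 * c.φ v 1), 0] := by
  obtain ⟨u, hu, he⟩ := c.φ_conj l v
  refine ⟨v * u⁻¹, ?_, ?_⟩
  · rw [Subgroup.coe_mul, Subgroup.coe_inv, hu]; group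
  · have h1 := c.φ_mul u u⁻¹
    rw [mul_inv_cancel, c.φ_one] at h1
    rw [c.φ_mul, eq_neg_of_add_eq_zero_right h1.symm, he, apply_of_mem_upperUni ((c.memT l).1 hl)]
    funext i
    fin_cases i <;> simp [Matrix.mulVec, dotProduct, Fin.sum_univ_two]

theorem mem_normalizer_iff (g : L) :
    (g : G) ∈ Subgroup.normalizer (T : Set G) ↔ (c.ρ g : Matrix (Fin 2) (Fin 2) F) 1 0 = 0 := by
  constructor
  · intro h
    obtain ⟨l, hl⟩ := c.exists_ρ (uni 1)
    have hlT : (l : G) ∈ T := (c.memT l).2 (hl ▸ uni_mem 1)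
    have h1 : ((g * l * g⁻¹ : L) : G) ∈ T := by
      simpa using (Subgroup.mem_normalizer_iff.1 h _).1 hlT
    have h2 := apply_of_mem_upperUni ((c.memT _).1 h1)
    have h3 : (c.ρ (g * l * g⁻¹) : Matrix (Fin 2) (Fin 2) F) * (c.ρ g : Matrix (Fin 2) (Fin 2) F) =
        (c.ρ g : Matrix (Fin 2) (Fin 2) F) * (uni (1 : F) : Matrix (Fin 2) (Fin 2) F) := by
      rw [← hl, ← Matrix.SpecialLinearGroup.coe_mul, ← Matrix.SpecialLinearGroup.coe_mul, ← map_mul,
        ← map_mul, inv_mul_cancel_right]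
    have h4 := congrFun (congrFun h3 1) 1
    rw [h2] at h4
    simp [uni, Matrix.mul_apply, Fin.sum_univ_two] at h4
    exact h4
  · intro h
    have key : ∀ g : L, (c.ρ g : Matrix (Fin 2) (Fin 2) F) 1 0 = 0 → ∀ t ∈ T,
        (g : G) * t * (g : G)⁻¹ ∈ T := by
      intro g hg t ht
      set k : L := g * ⟨t, c.le ht⟩ * g⁻¹ with hk
      have h3 : (c.ρ k : Matrix (Fin 2) (Fin 2) F) * (c.ρ g : Matrix (Fin 2) (Fin 2) F) =
          (c.ρ g : Matrix (Fin 2) (Fin 2) F) * (c.ρ ⟨t, c.le ht⟩ : Matrix (Fin 2) (Fin 2) F) := by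
        rw [← Matrix.SpecialLinearGroup.coe_mul, ← Matrix.SpecialLinearGroup.coe_mul, ← map_mul,
          ← map_mul, hk, inv_mul_cancel_right]
      rw [apply_of_mem_upperUni ((c.memT ⟨t, c.le ht⟩).1 ht)] at h3
      have e00 := congrFun (congrFun h3 0) 0
      have e10 := congrFun (congrFun h3 1) 0
      simp [Matrix.mul_apply, Fin.sum_univ_two, hg] at e00 e10
      have hg00 : (c.ρ g : Matrix (Fin 2) (Fin 2) F) 0 0 ≠ 0 := by
        intro e
        have hd := (c.ρ g).2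
        rw [Matrix.det_fin_two, e, hg] at hd
        simp at hd
      have hk00 : (c.ρ k : Matrix (Fin 2) (Fin 2) F) 0 0 = 1 := by
        exact mul_right_cancel₀ hg00 (e00.trans (one_mul _).symm)
      have hk10 : (c.ρ k : Matrix (Fin 2) (Fin 2) F) 1 0 = 0 := by
        rcases e10 with e | e
        · exact e
        · exact absurd e hg00
      exact (c.memT k).2 ⟨hk00, hk10⟩
    refine Subgroup.mem_normalizer_iff.2 fun t => ⟨key g h t, fun ht => ?_⟩
    have hinv : (c.ρ g⁻¹ : Matrix (Fin 2) (Fin 2) F) 1 0 = 0 := by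
      rw [map_inv, Matrix.SpecialLinearGroup.coe_inv, Matrix.adjugate_fin_two]
      simp [h]
    have := key g⁻¹ hinv _ ht
    simpa [mul_assoc] using this

end Coords

end Cfsg.Agent.NaturalSL2
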